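import Mathlib
import Groth.Agent.Lib.SchDense.Basic

/-!
The generic fibre of a flat scheme over an integral scheme is schematically dominant.
-/

universe u

open CategoryTheory Limits AlgebraicGeometry

namespace GrothLib.GenExtend6

instance quasiCompact_fromSpecStalk {T : Scheme.{u}} [IsIntegral T] :
    QuasiCompact (T.fromSpecStalk (genericPoint T)) := by
  refine ⟨fun U hU hc => ?_⟩
  have : Subsingleton (Spec (T.presheaf.stalk (genericPoint T))) :=
    inferInstanceAs (Subsingleton (PrimeSpectrum T.functionField))
  exact Set.Finite.isCompact (Set.toFinite _)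

instance schDominant_fromSpecStalk {T : Scheme.{u}} [IsIntegral T] :
    IsSchemeTheoreticallyDominant (T.fromSpecStalk (genericPoint T)) := by
  have : IsDominant (T.fromSpecStalk (genericPoint T)) := by
    refine ⟨?_⟩
    refine Dense.mono ?_ ((dense_iff_closure_eq (s := {genericPoint T})).2
      (genericPoint_spec T))
    rintro x rfl
    exact ⟨IsLocalRing.closedPoint _, Scheme.fromSpecStalk_closedPoint⟩
  exact IsSchemeTheoreticallyDominant.of_isDominant _

end GrothLib.GenExtend6
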